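import Mathlib
import Cfsg.Agent.Small.Count

/-! Counting conjugacy classes that meet a set. -/

set_option autoImplicit false

namespace Cfsg.Agent.Grp.Cls

open Subgroup

variable {G : Type*} [Group G]

/-- The number of conjugacy classes that meet `S`. -/
noncomputable def cls (S : Set G) : ℕ := (ConjClasses.mk '' S).ncard

theorem cls_eq_of_reps {ι : Type*} (I : Finset ι) (R : ι → G → Prop) {S : Set G}
    (ex : ∀ i ∈ I, ∃ g ∈ S, R i g)
    (inj : ∀ i ∈ I, ∀ j ∈ I, ∀ a ∈ S, ∀ b ∈ S, R i a → R j b → IsConj a b → i = j)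
    (uniq : ∀ i ∈ I, ∀ a ∈ S, ∀ b ∈ S, R i a → R i b → IsConj a b)
    (cov : ∀ g ∈ S, ∃ i ∈ I, ∃ a ∈ S, R i a ∧ IsConj a g) : cls S = I.card := by
  classical
  choose! f hf using ex
  have e : ConjClasses.mk '' S = (fun i => ConjClasses.mk (f i)) '' (I : Set ι) := by
    ext c
    constructor
    · rintro ⟨g, hg, rfl⟩
      obtain ⟨i, hi, a, ha, h1, h2⟩ := cov g hg
      exact ⟨i, hi, ConjClasses.mk_eq_mk_iff_isConj.2
        ((uniq i hi _ (hf i hi).1 a ha (hf i hi).2 h1).trans h2)⟩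
    · rintro ⟨i, hi, rfl⟩
      exact ⟨f i, (hf i hi).1, rfl⟩
  rw [cls, e, Set.InjOn.ncard_image, Set.ncard_coe_finset]
  intro i hi j hj h
  exact inj i hi j hj _ (hf i hi).1 _ (hf j hj).1 (hf i hi).2 (hf j hj).2
    (ConjClasses.mk_eq_mk_iff_isConj.1 h)

theorem cls_eq_one {S : Set G} {x : G} (hx : x ∈ S) (h : ∀ g ∈ S, IsConj x g) : cls S = 1 := by
  rw [cls, Set.ncard_eq_one]
  refine ⟨ConjClasses.mk x, Set.eq_singleton_iff_unique_mem.2 ⟨⟨x, hx, rfl⟩, ?_⟩⟩
  rintro _ ⟨g, hg, rfl⟩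
  exact ConjClasses.mk_eq_mk_iff_isConj.2 (h g hg).symm

theorem cls_eq_two {S : Set G} {x y : G} (hx : x ∈ S) (hy : y ∈ S) (hn : ¬ IsConj x y)
    (h : ∀ g ∈ S, IsConj g x ∨ IsConj g y) : cls S = 2 := by
  rw [cls, Set.ncard_eq_two]
  refine ⟨ConjClasses.mk x, ConjClasses.mk y,
    fun e => hn (ConjClasses.mk_eq_mk_iff_isConj.1 e), Set.Subset.antisymm ?_ ?_⟩
  · rintro _ ⟨g, hg, rfl⟩
    exact (h g hg).imp ConjClasses.mk_eq_mk_iff_isConj.2 ConjClasses.mk_eq_mk_iff_isConj.2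
  · rintro _ (rfl | rfl)
    · exact ⟨x, hx, rfl⟩
    · exact ⟨y, hy, rfl⟩

/-- Two sets meet the same number of classes if a power map induces a bijection. -/
theorem cls_eq_of_pow {S T : Set G} (n : ℕ) (h1 : ∀ g ∈ S, g ^ n ∈ T)
    (h2 : ∀ y ∈ T, ∃ g ∈ S, g ^ n = y)
    (h3 : ∀ a ∈ S, ∀ b ∈ S, IsConj (a ^ n) (b ^ n) → IsConj a b) : cls S = cls T := by
  let φ : ConjClasses G → ConjClasses G := Quotient.map (· ^ n) fun _ _ h => IsConj.pow n h
  have hφ : ∀ g, φ (ConjClasses.mk g) = ConjClasses.mk (g ^ n) := fun _ => rfl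
  refine Set.ncard_congr (fun c _ => φ c) ?_ ?_ ?_
  · rintro _ ⟨g, hg, rfl⟩
    exact ⟨_, h1 g hg, rfl⟩
  · rintro _ _ ⟨a, ha, rfl⟩ ⟨b, hb, rfl⟩ e
    rw [hφ, hφ] at e
    exact ConjClasses.mk_eq_mk_iff_isConj.2 (h3 a ha b hb (ConjClasses.mk_eq_mk_iff_isConj.1 e))
  · rintro _ ⟨y, hy, rfl⟩
    obtain ⟨g, hg, rfl⟩ := h2 y hy
    exact ⟨_, ⟨g, hg, rfl⟩, rfl⟩

theorem cls_congr {S T : Set G} (h1 : ∀ g ∈ S, ∃ a ∈ T, IsConj a g)
    (h2 : ∀ g ∈ T, ∃ a ∈ S, IsConj a g) : cls S = cls T := by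
  rw [cls, cls]
  congr 1
  ext c
  constructor <;> rintro ⟨g, hg, rfl⟩
  · obtain ⟨a, ha, e⟩ := h1 g hg
    exact ⟨a, ha, ConjClasses.mk_eq_mk_iff_isConj.2 e⟩
  · obtain ⟨a, ha, e⟩ := h2 g hg
    exact ⟨a, ha, ConjClasses.mk_eq_mk_iff_isConj.2 e⟩

variable [Finite G]

theorem card_eq_sum (τ : G → ℕ) (hτ : ∀ a b, IsConj a b → τ a = τ b) (F : Finset ℕ)
    (hF : ∀ g, τ g ∈ F) : Nat.card (ConjClasses G) = ∑ n ∈ F, cls {g | τ g = n} := by
  classical
  have := Fintype.ofFinite G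
  let σ : ConjClasses G → ℕ := Quotient.lift τ hτ
  have hσ : ∀ g, σ (ConjClasses.mk g) = τ g := fun _ => rfl
  rw [Nat.card_eq_fintype_card, ← Finset.card_univ,
    Finset.card_eq_sum_card_fiberwise (f := σ) (t := F) fun c _ => by
      obtain ⟨g, rfl⟩ := ConjClasses.exists_rep c
      exact hF g]
  refine Finset.sum_congr rfl fun n _ => ?_
  rw [cls, ← Set.ncard_coe_finset]
  congr 1
  ext c
  obtain ⟨g, rfl⟩ := ConjClasses.exists_rep c
  simp only [Finset.coe_filter, Finset.mem_univ, true_and, Set.mem_ofPred_eq, Set.mem_image, hσ]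
  exact ⟨fun h => ⟨g, h, rfl⟩, fun ⟨a, h, e⟩ =>
    (hτ _ _ (ConjClasses.mk_eq_mk_iff_isConj.1 e)).symm.trans h⟩

/-- An invariant set whose elements have centralisers of the same order. -/
theorem cls_mul {S : Set G} (hS : ∀ a ∈ S, ∀ b, IsConj a b → b ∈ S) {c : ℕ}
    (hc : ∀ a ∈ S, Nat.card (centralizer ({a} : Set G)) = c) :
    cls S * Nat.card G = S.ncard * c := by
  classical
  have := Fintype.ofFinite G
  rw [cls, Set.ncard_eq_toFinset_card' S, Finset.card_eq_sum_card_image ConjClasses.mk,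
    Finset.sum_mul, Set.ncard_eq_toFinset_card', Set.toFinset_image, ← smul_eq_mul,
    ← Finset.sum_const]
  refine Finset.sum_congr rfl fun x hx => ?_
  obtain ⟨a, ha, rfl⟩ := Finset.mem_image.1 hx
  rw [Set.mem_toFinset] at ha
  rw [← Small.card_isConj_mul_card_centralizer a, hc a ha, Nat.card_eq_fintype_card,
    Fintype.card_subtype]
  congr 2
  ext b
  simp only [Finset.mem_filter, Finset.mem_univ, true_and, Set.mem_toFinset,
    ConjClasses.mk_eq_mk_iff_isConj]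
  exact ⟨fun h => ⟨hS a ha b h, h.symm⟩, fun h => h.2.symm⟩

/-- The classes of elements of order `p` if the Sylow subgroup has order `p`. -/
theorem cls_prime {p : ℕ} [hp : Fact p.Prime] (U : Sylow p G) (hU : Nat.card (U : Subgroup G) = p)
    {c : ℕ} (hc : ∀ a : G, orderOf a = p → Nat.card (centralizer ({a} : Set G)) = c) :
    cls {g : G | orderOf g = p} * Nat.card (normalizer ((U : Subgroup G) : Set G)) =
      (p - 1) * c := by
  have h1 := cls_mul (S := {g : G | orderOf g = p}) (fun a ha b h => by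
    obtain ⟨k, rfl⟩ := isConj_iff.1 h
    exact (orderOf_injective (MulAut.conj k).toMonoidHom (MulAut.conj k).injective a).trans ha) hc
  have h2 : {g : G | orderOf g = p}.ncard = Nat.card (Sylow p G) * (p - 1) :=
    Small.card_orderOf_eq_prime U hU
  have h3 := (normalizer ((U : Subgroup G) : Set G)).card_mul_index
  rw [show (normalizer ((U : Subgroup G) : Set G)).index = Nat.card (Sylow p G) from
    (Sylow.card_eq_index_normalizer U).symm] at h3
  rw [h2, ← h3] at h1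
  have h4 : 0 < Nat.card (Sylow p G) := Nat.card_pos
  refine Nat.eq_of_mul_eq_mul_right h4 ?_
  rw [mul_assoc, h1]
  ring

/-- The class equation: pairwise non-conjugate elements whose classes fill `H`. -/
theorem cover_of_sum {ι : Type*} (H : Subgroup G) (I : Finset ι) (f : ι → G) (n : ι → ℕ)
    (hf : ∀ i ∈ I, f i ∈ H) (hn : ∀ i ∈ I, Nat.card ↥(H ⊓ centralizer {f i}) = n i)
    (inj : ∀ i ∈ I, ∀ j ∈ I, ∀ y ∈ H, y * f i * y⁻¹ = f j → i = j)
    (hs : ∑ i ∈ I, Nat.card H / n i = Nat.card H) {g : G} (hg : g ∈ H) :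
    ∃ i ∈ I, ∃ y ∈ H, y * f i * y⁻¹ = g := by
  classical
  have := Fintype.ofFinite G
  let C : ι → Finset G := fun i => Finset.univ.filter fun g => ∃ y ∈ H, y * f i * y⁻¹ = g
  have h1 : ∀ i ∈ I, (C i).card = Nat.card H / n i := fun i hi => by
    rw [← Small.card_conj_mul_card_inf_centralizer H (f i), hn i hi, Nat.mul_div_cancel _
      (by rw [← hn i hi]; exact Nat.card_pos), Nat.card_eq_fintype_card, Fintype.card_subtype]
  have h2 : (I.biUnion C).card = Nat.card H := by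
    rw [Finset.card_biUnion, Finset.sum_congr rfl h1, hs]
    intro i hi j hj hij
    refine Finset.disjoint_left.2 fun a ha hb => hij ?_
    obtain ⟨y, hy, rfl⟩ := (Finset.mem_filter.1 ha).2
    obtain ⟨w, hw, e⟩ := (Finset.mem_filter.1 hb).2
    exact inj i hi j hj (w⁻¹ * y) (mul_mem (inv_mem hw) hy)
      (by rw [show w⁻¹ * y * f i * (w⁻¹ * y)⁻¹ = w⁻¹ * (y * f i * y⁻¹) * w by group, ← e]; group)
  have h3 : I.biUnion C = Finset.univ.filter (· ∈ H) := by
    refine Finset.eq_of_subset_of_card_le (fun a ha => ?_) ?_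
    · obtain ⟨i, hi, ha⟩ := Finset.mem_biUnion.1 ha
      obtain ⟨y, hy, rfl⟩ := (Finset.mem_filter.1 ha).2
      exact Finset.mem_filter.2 ⟨Finset.mem_univ _,
        mul_mem (mul_mem hy (hf i hi)) (inv_mem hy)⟩
    · rw [h2, Nat.card_eq_fintype_card, Fintype.card_subtype]
  have h4 : g ∈ I.biUnion C := h3 ▸ Finset.mem_filter.2 ⟨Finset.mem_univ _, hg⟩
  obtain ⟨i, hi, ha⟩ := Finset.mem_biUnion.1 h4
  exact ⟨i, hi, (Finset.mem_filter.1 ha).2⟩

/-- A cyclic group has at most one involution. -/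
theorem invol_unique {g a b : G} (ha : a ∈ zpowers g) (hb : b ∈ zpowers g) (oa : orderOf a = 2)
    (ob : orderOf b = 2) : a = b := by
  classical
  have := Fintype.ofFinite (zpowers g)
  have h1 := IsCyclic.card_orderOf_eq_totient (α := zpowers g) (d := 2)
    (by rw [← oa, ← Nat.card_eq_fintype_card]; exact orderOf_dvd_natCard (⟨a, ha⟩ : zpowers g) |>
      fun h => by rwa [Subgroup.orderOf_mk] at h)
  rw [Nat.totient_two, Finset.card_eq_one] at h1
  obtain ⟨x, hx⟩ := h1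
  have h2 : (⟨a, ha⟩ : zpowers g) ∈ ({x} : Finset (zpowers g)) := by
    rw [← hx]; simpa using oa
  have h3 : (⟨b, hb⟩ : zpowers g) ∈ ({x} : Finset (zpowers g)) := by
    rw [← hx]; simpa using ob
  rw [Finset.mem_singleton] at h2 h3
  exact congrArg Subtype.val (h2.trans h3.symm)

omit [Finite G] in
theorem conj_mem_zpowers {g a : G} (y : G) (ha : a ∈ zpowers g) :
    y * a * y⁻¹ ∈ zpowers (y * g * y⁻¹) := by
  obtain ⟨k, rfl⟩ := ha
  exact ⟨k, by simp [conj_zpow]⟩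

/-- Conjugate elements with the same involution in their cyclic groups are conjugate in its
centraliser. -/
theorem conj_in_cent {x a b : G} (hx : orderOf x = 2) (ha : x ∈ zpowers a) (hb : x ∈ zpowers b)
    (h : IsConj a b) : ∃ y ∈ centralizer ({x} : Set G), y * a * y⁻¹ = b := by
  obtain ⟨y, rfl⟩ := isConj_iff.1 h
  refine ⟨y, mem_centralizer_singleton_iff.2 (mul_inv_eq_iff_eq_mul.1 ?_), rfl⟩
  exact invol_unique (conj_mem_zpowers y ha) hb
    ((orderOf_injective (MulAut.conj y).toMonoidHom (MulAut.conj y).injective x).trans hx) hx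

omit [Finite G] in
theorem mem_zpowers_conj {x y g : G} (hy : y ∈ centralizer ({x} : Set G)) (h : x ∈ zpowers g) :
    x ∈ zpowers (y * g * y⁻¹) := by
  have := conj_mem_zpowers y h
  rwa [mul_inv_eq_iff_eq_mul.2 (mem_centralizer_singleton_iff.1 hy)] at this

omit [Finite G] in
theorem mem_cent_of_mem_zpowers {x g : G} (h : x ∈ zpowers g) :
    g ∈ centralizer ({x} : Set G) := by
  obtain ⟨k, rfl⟩ := h
  exact mem_centralizer_singleton_iff.2 (Commute.self_zpow g k)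

/-- If `x` is a power of `g` then `g` is conjugate to one of the representatives. -/
def Cov {ι : Type*} (x : G) (I : List ι) (R : ι → G → Prop) (g : G) : Prop :=
  x ∈ zpowers g → ∃ i ∈ I, ∃ a, x ∈ zpowers a ∧ R i a ∧ IsConj a g

omit [Finite G] in
theorem Cov.conj {ι : Type*} {x : G} {I : List ι} {R : ι → G → Prop} {g y g' : G}
    (h : Cov x I R g) (hy : y ∈ centralizer ({x} : Set G)) (e : y * g * y⁻¹ = g') :
    Cov x I R g' := fun h1 => by
  have h2 := mem_zpowers_conj (inv_mem hy) h1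
  rw [← e, show y⁻¹ * (y * g * y⁻¹) * y⁻¹⁻¹ = g by group] at h2
  obtain ⟨i, hi, a, h3, h4, h5⟩ := h h2
  exact ⟨i, hi, a, h3, h4, h5.trans (isConj_iff.2 ⟨y, e⟩)⟩

theorem cls_eq_of_cov {ι : Type*} [DecidableEq ι] {x : G} (hx : orderOf x = 2) (I : List ι)
    (R : ι → G → Prop) (ex : ∀ i ∈ I, ∃ g, x ∈ zpowers g ∧ R i g)
    (inj : ∀ i ∈ I, ∀ j ∈ I, ∀ a b, R i a → R j b → ∀ y ∈ centralizer ({x} : Set G),
      y * a * y⁻¹ = b → i = j)
    (uniq : ∀ i ∈ I, ∀ a b, x ∈ zpowers a → x ∈ zpowers b → R i a → R i b → IsConj a b)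
    (cov : ∀ g ∈ centralizer ({x} : Set G), Cov x I R g) :
    cls {g | x ∈ zpowers g} = I.toFinset.card := by
  refine cls_eq_of_reps _ R (fun i hi => ex i (List.mem_toFinset.1 hi))
    (fun i hi j hj a ha b hb h1 h2 h3 => ?_) (fun i hi a ha b hb => uniq i
      (List.mem_toFinset.1 hi) a b ha hb) fun g hg => ?_
  · obtain ⟨y, hy, e⟩ := conj_in_cent hx ha hb h3
    exact inj i (List.mem_toFinset.1 hi) j (List.mem_toFinset.1 hj) a b h1 h2 y hy e
  · obtain ⟨i, hi, h⟩ := cov g (mem_cent_of_mem_zpowers hg) hg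
    exact ⟨i, List.mem_toFinset.2 hi, h⟩

end Cfsg.Agent.Grp.Cls
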