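import Mathlib
import Cfsg.Agent.FT.Metacyclic
import Cfsg.Agent.Fus.AutCop
import Cfsg.Agent.Grp.MaxClass
import Cfsg.Agent.Grp.CommPow
import Cfsg.Agent.Inv.AutCyc
import Cfsg.Agent.Inv.AutTwo
import Cfsg.Agent.Inv.CycExt
import Cfsg.Agent.Perm.SimplePower
import Cfsg.Agent.S4208

/-!
Automorphisms of metacyclic `p`-groups: the Frattini quotient has order at most `p ^ 2`, the
primes dividing the order of the automorphism group, and the metacyclic 2-groups with a
nontrivial automorphism of odd order.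
-/

set_option autoImplicit false

open Subgroup
open scoped commutatorElement

namespace Cfsg.Agent.Grp.MetaAut

variable {X : Type*} [Group X] [Finite X]

theorem index_frattini_le_sq {p : ℕ} [hp : Fact p.Prime] (hX : IsPGroup p X)
    (hm : IsMetacyclic X) : (frattini X).index ≤ p ^ 2 := by
  obtain ⟨a, b, hn, hab⟩ := FT.R2.isMetacyclic_iff.1 hm
  have hpos : 0 < p := hp.out.pos
  let f : Fin p × Fin p → X ⧸ frattini X := fun ij => ((a ^ (ij.1 : ℕ) * b ^ (ij.2 : ℕ) : X) : _)
  have hf : Function.Surjective f := by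
    intro y
    obtain ⟨x, rfl⟩ := QuotientGroup.mk_surjective y
    have hx : x ∈ zpowers a ⊔ zpowers b := by rw [hab]; trivial
    obtain ⟨u, hu, v, hv, rfl⟩ := (mem_sup_of_normal_left).1 hx
    obtain ⟨i, rfl⟩ := (mem_powers_iff_mem_zpowers.2 hu)
    obtain ⟨j, rfl⟩ := (mem_powers_iff_mem_zpowers.2 hv)
    refine ⟨(⟨i % p, Nat.mod_lt _ hpos⟩, ⟨j % p, Nat.mod_lt _ hpos⟩), ?_⟩
    have ha : ((a : X ⧸ frattini X)) ^ p = 1 := by
      rw [← QuotientGroup.mk_pow, QuotientGroup.eq_one_iff]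
      exact PFrattini.pow_mem_frattini hX a
    have hb : ((b : X ⧸ frattini X)) ^ p = 1 := by
      rw [← QuotientGroup.mk_pow, QuotientGroup.eq_one_iff]
      exact PFrattini.pow_mem_frattini hX b
    simp only [f, QuotientGroup.mk_mul, QuotientGroup.mk_pow]
    rw [← pow_eq_pow_mod i ha, ← pow_eq_pow_mod j hb]
  have := Nat.card_le_card_of_surjective f hf
  rw [Nat.card_prod, Nat.card_fin] at this
  rw [pow_two]
  exact this

theorem prime_dvd_sq_sub_one {p : ℕ} [hp : Fact p.Prime] (hX : IsPGroup p X)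
    (hm : IsMetacyclic X) {q : ℕ} (hq : q.Prime) (hqp : q ≠ p) (h : q ∣ Nat.card (MulAut X)) :
    q ∣ p ^ 2 - 1 := by
  obtain ⟨n, hn⟩ := hX.exists_card_eq
  obtain ⟨r, -, hr⟩ := (Nat.dvd_prime_pow hp.out).1 (hn ▸ (frattini X).index_dvd_card)
  have hr2 : r ≤ 2 := by
    have := index_frattini_le_sq hX hm
    rw [hr] at this
    exact (Nat.pow_le_pow_iff_right hp.out.one_lt).1 this
  have hd := h.trans (S4208.result hn hr)
  have hqp' : ¬ q ∣ p := fun h => hqp ((Nat.prime_dvd_prime_iff_eq hq hp.out).1 h)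
  rcases (Nat.Prime.dvd_mul hq).1 hd with h1 | h1
  · exact absurd (hq.dvd_of_dvd_pow h1) hqp'
  have hp1 : p - 1 ∣ p ^ 2 - 1 := by simpa using Nat.sub_dvd_pow_sub_pow p 1 2
  interval_cases r
  · simp at h1
    exact absurd h1 hq.one_lt.ne'
  · simp at h1
    exact h1.trans hp1
  · simp only [Finset.prod_range_succ, Finset.range_zero, Finset.prod_empty, one_mul, pow_zero,
      pow_one] at h1
    rcases (Nat.Prime.dvd_mul hq).1 h1 with h2 | h2
    · exact h2
    · have : p ^ 2 - p = p * (p - 1) := by rw [Nat.mul_sub_one, pow_two]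
      rw [this] at h2
      rcases (Nat.Prime.dvd_mul hq).1 h2 with h3 | h3
      · exact absurd h3 hqp'
      · exact h3.trans hp1

/-- A subgroup invariant under a nontrivial automorphism of odd order of a 2-group with Frattini
quotient of order at most 4 lies in the Frattini subgroup or is everything. -/
theorem inv_le_or (hX : IsPGroup 2 X) (h4 : (frattini X).index ≤ 2 ^ 2) {α : MulAut X}
    (hα : (orderOf α).Coprime 2) (h1 : α ≠ 1) {U : Subgroup X} (hU : ∀ x ∈ U, α x ∈ U) :
    U ≤ frattini X ∨ U = ⊤ := by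
  by_contra hc
  rw [not_or] at hc
  obtain ⟨hc1, hc2⟩ := hc
  have hΦ : ∀ x ∈ frattini X, α x ∈ frattini X := fun x hx =>
    Fus.AC.inv_of_char ⊤ (frattini X) α trivial x hx
  set V := U ⊔ frattini X with hV
  have hVi : ∀ x ∈ V, α x ∈ V := by
    have : V.map (α : X →* X) ≤ V := by
      rw [hV, Subgroup.map_sup]
      refine sup_le_sup ?_ ?_
      · rintro _ ⟨x, hx, rfl⟩; exact hU x hx
      · rintro _ ⟨x, hx, rfl⟩; exact hΦ x hx
    intro x hx
    exact this ⟨x, hx, rfl⟩
  have l1 : frattini X < V := lt_of_le_of_ne le_sup_right (fun h => hc1 (h ▸ le_sup_left))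
  have l2 : V < ⊤ := lt_top_iff_ne_top.2 (fun h => hc2 (eq_top_of_sup_le_frattini le_rfl h))
  have c1 := MaxClass.mul_card_le_of_lt hX l1
  have c2 := MaxClass.mul_card_le_of_lt hX l2
  rw [card_top] at c2
  have c3 := (frattini X).card_mul_index
  have c4 := V.card_mul_index
  have c5 : (frattini X).relIndex V * V.index = (frattini X).index :=
    relIndex_mul_index le_sup_right
  have p1 : 0 < Nat.card (frattini X) := Nat.card_pos
  have p2 : 0 < Nat.card V := Nat.card_pos
  have i1 : 2 ≤ V.index := by nlinarith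
  have i2 : 2 * V.index ≤ (frattini X).index := by nlinarith
  have i3 : V.index = 2 := by omega
  have i4 : (frattini X).relIndex V = 2 := by rw [i3] at c5 i2; omega
  apply h1
  refine Fus.AC.eq_one_of_chain hX hα (fun i => if i = 0 then frattini X else if i = 1 then V else ⊤)
    2 (by simp) (by simp) ?_ ?_
  · intro i hi
    interval_cases i
    · simpa using hΦ
    · simpa using hVi
  · intro i hi
    interval_cases i
    · intro y hy
      simp only [zero_add, one_ne_zero, if_false, if_true] at hy ⊢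
      simpa using Fus.AC.step_pow_sub_one hX hΦ hVi (by rw [i4]) hy
    · intro y _
      simp only [one_ne_zero, if_false, if_true]
      simpa using Fus.AC.step_pow_sub_one hX hVi (V := ⊤) (fun _ _ => trivial)
        (by rw [relIndex_top_right, i3]) (mem_top y)

theorem zpowers_ne_top (hX : IsPGroup 2 X) {α : MulAut X}
    (hα : (orderOf α).Coprime 2) (h1 : α ≠ 1) (a : X) : zpowers a ≠ ⊤ := by
  intro h
  obtain ⟨n, hn⟩ := IsPGroup.iff_orderOf.1 hX a
  have h2 := Agent.Inv.AutCyc.pow_two_pow_apply_eq α hn (by rw [h]; trivial)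
  have h3 : α ^ 2 ^ n = 1 := by
    ext x
    have hx : x ∈ zpowers a := by rw [h]; trivial
    obtain ⟨k, rfl⟩ := hx
    simp only [map_zpow, h2, MulAut.one_apply]
  apply h1
  have h4 := orderOf_dvd_of_pow_eq_one h3
  exact orderOf_eq_one_iff.1 (Nat.Coprime.eq_one_of_dvd (hα.pow_right n) h4)

omit [Finite X] in
theorem eq_pow_of_sq {a t : X} {n : ℕ} (ha : orderOf a = 2 ^ (n + 1)) (ht : t ∈ zpowers a)
    (ht1 : t ≠ 1) (ht2 : t ^ 2 = 1) : t = a ^ 2 ^ n := by
  have hfin : IsOfFinOrder a := orderOf_pos_iff.1 (by rw [ha]; positivity)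
  obtain ⟨i, rfl⟩ := hfin.mem_powers_iff_mem_zpowers.2 ht
  simp only at ht1 ht2 ⊢
  rw [← pow_mul, ← orderOf_dvd_iff_pow_eq_one, ha, pow_succ] at ht2
  obtain ⟨j, rfl⟩ := Nat.dvd_of_mul_dvd_mul_right two_pos ht2
  have hz : (a ^ 2 ^ n) ^ 2 = 1 := by rw [← pow_mul, ← pow_succ, ← ha, pow_orderOf_eq_one]
  rw [pow_mul] at ht1 ⊢
  rw [pow_eq_pow_mod j hz] at ht1 ⊢
  rcases Nat.mod_two_eq_zero_or_one j with h | h
  · rw [h, pow_zero] at ht1; exact absurd rfl ht1
  · rw [h, pow_one]

/-- A metacyclic 2-group with a nontrivial automorphism of odd order is generated by two normal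
cyclic subgroups `⟨a⟩`, `⟨α a⟩`. -/
theorem exists_gens (hX : IsPGroup 2 X) (hm : IsMetacyclic X) {α : MulAut X}
    (hα : (orderOf α).Coprime 2) (h1 : α ≠ 1) :
    ∃ a : X, (zpowers a).Normal ∧ (zpowers (α a)).Normal ∧ zpowers a ⊔ zpowers (α a) = ⊤ ∧
      α a ∉ zpowers a ⊔ frattini X := by
  have h4 := index_frattini_le_sq hX hm
  obtain ⟨a, b, hn, hab⟩ := FT.R2.isMetacyclic_iff.1 hm
  have hΦ : ∀ x ∈ frattini X, α x ∈ frattini X := fun x hx =>
    Fus.AC.inv_of_char ⊤ (frattini X) α trivial x hx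
  have ha : a ∉ frattini X := by
    intro ha
    apply zpowers_ne_top hX hα h1 b
    refine eq_top_of_sup_le_frattini (D := zpowers a) (by simpa using ha) ?_
    rw [sup_comm, hab]
  have hc : α a ∉ zpowers a ⊔ frattini X := by
    intro hc
    have hinv : ∀ x ∈ zpowers a ⊔ frattini X, α x ∈ zpowers a ⊔ frattini X := by
      have : (zpowers a ⊔ frattini X).map (α : X →* X) ≤ zpowers a ⊔ frattini X := by
        rw [Subgroup.map_sup, MonoidHom.map_zpowers]
        refine sup_le (by simpa using hc) ?_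
        rintro _ ⟨x, hx, rfl⟩; exact mem_sup_right (hΦ x hx)
      intro x hx
      exact this ⟨x, hx, rfl⟩
    rcases inv_le_or hX h4 hα h1 hinv with h | h
    · exact ha (h (mem_sup_left (mem_zpowers a)))
    · exact zpowers_ne_top hX hα h1 a (eq_top_of_sup_le_frattini le_rfl h)
  refine ⟨a, hn, ?_, ?_, hc⟩
  · have := hn.map (α : X →* X) α.surjective
    rwa [MonoidHom.map_zpowers] at this
  · set M := zpowers a ⊔ frattini X with hM
    have l1 : frattini X < M :=
      lt_of_le_of_ne le_sup_right (fun h => ha (h ▸ mem_sup_left (mem_zpowers a)))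
    have l2 : M < M ⊔ zpowers (α a) :=
      lt_of_le_of_ne le_sup_left (fun h => hc (h ▸ mem_sup_right (mem_zpowers _)))
    have c1 := MaxClass.mul_card_le_of_lt hX l1
    have c2 := MaxClass.mul_card_le_of_lt hX l2
    have c3 := (frattini X).card_mul_index
    have c4 : Nat.card X ≤ Nat.card (M ⊔ zpowers (α a) : Subgroup X) := by nlinarith
    have c5 : M ⊔ zpowers (α a) = ⊤ :=
      eq_top_of_card_eq _ (le_antisymm (card_le_card_group _) c4)
    refine eq_top_of_sup_le_frattini le_rfl ?_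
    rw [← c5, hM]
    simp only [sup_assoc, sup_comm (frattini X)]

theorem main (hX : IsPGroup 2 X) (hm : IsMetacyclic X) {α : MulAut X}
    (hα : (orderOf α).Coprime 2) (h1 : α ≠ 1) :
    Nonempty (X ≃* QuaternionGroup 2) ∨
      ∃ n : ℕ, 0 < n ∧
        Nonempty (X ≃* Multiplicative (ZMod (2 ^ n)) × Multiplicative (ZMod (2 ^ n))) := by
  have h4 := index_frattini_le_sq hX hm
  obtain ⟨a, hA, hC, hAC, hc⟩ := exists_gens hX hm hα h1
  set c := α a with hcdef
  obtain ⟨n, hn⟩ := IsPGroup.iff_orderOf.1 hX a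
  have hnc : orderOf c = 2 ^ n := by rw [hcdef, MulEquiv.orderOf_eq, hn]
  have hcA : c ∉ zpowers a := fun h => hc (mem_sup_left h)
  have hn0 : n ≠ 0 := by
    rintro rfl
    apply hcA
    rw [pow_zero, orderOf_eq_one_iff] at hnc
    rw [hnc]; exact one_mem _
  obtain ⟨n, rfl⟩ := Nat.exists_eq_succ_of_ne_zero hn0
  set D := zpowers a ⊓ zpowers c with hD
  have hDZ : D ≤ center X := by
    intro d hd
    have h2 : (⊤ : Subgroup X) ≤ centralizer {d} := by
      rw [← hAC]
      refine sup_le ?_ ?_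
      · rw [zpowers_le, mem_centralizer_singleton_iff]
        obtain ⟨k, hk⟩ := hd.1
        rw [← hk]
        exact ((Commute.refl a).zpow_right k).eq
      · rw [zpowers_le, mem_centralizer_singleton_iff]
        obtain ⟨k, hk⟩ := hd.2
        rw [← hk]
        exact ((Commute.refl c).zpow_right k).eq
    rw [mem_center_iff]
    intro g
    exact mem_centralizer_singleton_iff.1 (h2 (mem_top g))
  have hw : ⁅a, c⁆ ∈ D := by
    refine ⟨?_, ?_⟩
    · have : ⁅a, c⁆ = a * (c * a⁻¹ * c⁻¹) := by group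
      rw [this]
      exact (zpowers a).mul_mem (mem_zpowers a)
        (hA.conj_mem _ ((zpowers a).inv_mem (mem_zpowers a)) c)
    · have : ⁅a, c⁆ = (a * c * a⁻¹) * c⁻¹ := by group
      rw [this]
      exact (zpowers c).mul_mem (hC.conj_mem _ (mem_zpowers c) a)
        ((zpowers c).inv_mem (mem_zpowers c))
  have hcomm : commutator X ≤ zpowers ⁅a, c⁆ :=
    FT.R2.commutator_le_zpowers (T := ⊥) bot_le (by simpa using hA) (by simpa using hAC)
  by_cases hD0 : D = ⊥
  · right
    refine ⟨n + 1, by omega, ?_⟩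
    have hac : Commute a c := by
      rw [hD0, mem_bot] at hw
      exact commutatorElement_eq_one_iff_commute.1 hw
    obtain ⟨e⟩ := Perm.nonempty_sup_mulEquiv_prod (zpowers a) (zpowers c)
      (by
        rintro _ ⟨i, rfl⟩ _ ⟨j, rfl⟩
        exact hac.zpow_zpow i j)
      (disjoint_iff.2 hD0)
    have e1 : zpowers a ≃* Multiplicative (ZMod (2 ^ (n + 1))) :=
      mulEquivOfCyclicCardEq (by simp [Nat.card_zpowers, hn])
    have e2 : zpowers c ≃* Multiplicative (ZMod (2 ^ (n + 1))) :=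
      mulEquivOfCyclicCardEq (by simp [Nat.card_zpowers, hnc])
    exact ⟨(topEquiv.symm.trans (MulEquiv.subgroupCongr hAC.symm)).trans
      (e.trans (e1.prodCongr e2))⟩
  -- the common involution
  obtain ⟨t, htD, ht1, ht2⟩ : ∃ t ∈ D, t ≠ 1 ∧ t ^ 2 = 1 := by
    have h2 : 2 ∣ Nat.card D := by
      obtain ⟨k, hk⟩ := (hX.to_subgroup D).exists_card_eq
      rcases k with _ | k
      · exact absurd (card_eq_one.1 (by simpa using hk)) hD0
      · rw [hk]; exact dvd_pow_self 2 (by omega)
    obtain ⟨t, ht⟩ := exists_prime_orderOf_dvd_card' 2 h2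
    refine ⟨t, t.2, ?_, ?_⟩
    · intro h
      rw [← Subgroup.orderOf_coe, h, orderOf_one] at ht
      omega
    · rw [← Subgroup.orderOf_coe] at ht
      rw [← ht, pow_orderOf_eq_one]
  have hta := eq_pow_of_sq hn htD.1 ht1 ht2
  have htc := eq_pow_of_sq hnc htD.2 ht1 ht2
  have hwZ : ∀ g : X, Commute ⁅a, c⁆ g := fun g => (mem_center_iff.1 (hDZ hw) g).symm
  -- the order of the commutator
  obtain ⟨k, hk⟩ := IsPGroup.iff_orderOf.1 hX ⁅a, c⁆
  have hk2 : 2 * k ≤ n + 1 := by
    have d1 : orderOf ⁅a, c⁆ ∣ Nat.card D := orderOf_dvd_natCard D hw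
    have d2 : orderOf ⁅a, c⁆ ∣ D.relIndex (zpowers a) := by
      rw [orderOf_dvd_iff_pow_eq_one, ← CommPow.commutator_pow_left (hwZ a),
        commutatorElement_eq_one_iff_commute]
      haveI : D.Normal := ⟨fun d hd g => by
        rw [mem_center_iff.1 (hDZ hd) g, mul_inv_cancel_right]; exact hd⟩
      have := D.pow_relIndex_mem (mem_zpowers a)
      exact (mem_center_iff.1 (hDZ this) c).symm
    have d3 : Nat.card D * D.relIndex (zpowers a) = 2 ^ (n + 1) := by
      rw [← hn, ← Nat.card_zpowers, relIndex, ← (D.subgroupOf (zpowers a)).card_mul_index,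
        Nat.card_congr (subgroupOfEquivOfLe (inf_le_left : D ≤ zpowers a)).toEquiv]
    have d4 := Nat.mul_dvd_mul d1 d2
    rw [d3, hk, ← pow_add] at d4
    have := (Nat.pow_dvd_pow_iff_le_right one_lt_two).1 d4
    omega
  by_cases hkn : k + 1 ≤ n
  · exfalso
    obtain ⟨m, rfl⟩ : ∃ m, n = m + 1 := ⟨n - 1, by omega⟩
    have hmul : ∀ x y : X, (x * y) ^ 2 ^ (m + 1) = x ^ 2 ^ (m + 1) * y ^ 2 ^ (m + 1) := by
      intro x y
      have h2 : ⁅y, x⁆ ∈ zpowers ⁅a, c⁆ :=
        hcomm (commutator_mem_commutator (mem_top y) (mem_top x))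
      obtain ⟨i, hi⟩ := h2
      simp only at hi
      rw [CommPow.mul_pow_of_commute (by rw [← hi]; exact (hwZ x).zpow_left i)
        (by rw [← hi]; exact (hwZ y).zpow_left i), ← hi]
      have h3 : 2 ^ k ∣ (2 ^ (m + 1)).choose 2 := by
        rw [Nat.choose_two_right, pow_succ, mul_comm (2 ^ m) 2, mul_assoc,
          Nat.mul_div_cancel_left _ two_pos]
        exact (pow_dvd_pow 2 (by omega)).mul_right _
      have h5 : ⁅a, c⁆ ^ (2 ^ (m + 1)).choose 2 = 1 := by
        rw [← orderOf_dvd_iff_pow_eq_one, hk]; exact h3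
      rw [← zpow_natCast (⁅a, c⁆ ^ i), ← zpow_mul, mul_comm i, zpow_mul, zpow_natCast, h5,
        one_zpow, mul_one]
    let K : Subgroup X :=
      { carrier := {x | x ^ 2 ^ (m + 1) = 1}
        mul_mem' := fun {x y} hx hy => by
          simp only [Set.mem_setOf_eq] at hx hy ⊢
          rw [hmul, hx, hy, one_mul]
        one_mem' := by simp
        inv_mem' := fun {x} hx => by
          simp only [Set.mem_setOf_eq] at hx ⊢
          rw [inv_pow, hx, inv_one] }
    have hK : ∀ x ∈ K, α x ∈ K := by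
      intro x hx
      change (α x) ^ 2 ^ (m + 1) = 1
      change x ^ 2 ^ (m + 1) = 1 at hx
      rw [← map_pow, hx, map_one]
    rcases inv_le_or hX h4 hα h1 hK with h | h
    · have h2 : a * c ∈ K := by
        change (a * c) ^ 2 ^ (m + 1) = 1
        rw [hmul, ← hta, ← htc, ← pow_two, ht2]
      apply hc
      have : c = a⁻¹ * (a * c) := by group
      rw [this]
      exact mul_mem (mem_sup_left ((zpowers a).inv_mem (mem_zpowers a))) (mem_sup_right (h h2))
    · have h2 : a ∈ K := by rw [h]; trivial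
      change a ^ 2 ^ (m + 1) = 1 at h2
      exact ht1 (hta.trans h2)
  have hn1 : n = 1 := by
    rcases n with _ | n
    · exfalso
      apply hcA
      simp only [pow_zero, pow_one] at hta htc
      rw [← htc, hta]
      exact mem_zpowers a
    · omega
  subst hn1
  have hk1 : k = 1 := by omega
  subst hk1
  left
  have hw2 : ⁅a, c⁆ = a ^ 2 ^ 1 := by
    refine eq_pow_of_sq hn hw.1 ?_ ?_
    · intro h; rw [h, orderOf_one] at hk; omega
    · rw [← pow_one 2, ← hk, pow_orderOf_eq_one]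
  have ha4 : a ^ 4 = 1 := by
    have := pow_orderOf_eq_one a
    rwa [hn] at this
  obtain ⟨e⟩ := Agent.Inv.nonempty_quaternion_of_gens (x := a) (y := c) (m := 2) (by rw [hn]; rfl)
    (by
      have h2 : c * a⁻¹ * c⁻¹ = a := by
        have : c * a⁻¹ * c⁻¹ = a⁻¹ * ⁅a, c⁆ := by group
        rw [this, hw2]; group
      have h3 : c * a * c⁻¹ = (c * a⁻¹ * c⁻¹)⁻¹ := by group
      rw [h3, h2])
    (by rw [← pow_two, ← pow_one 2, ← htc, hta]) hcA
  have htop : closure ({a, c} : Set X) = ⊤ := by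
    rw [← hAC, zpowers_eq_closure, zpowers_eq_closure, ← Subgroup.closure_union]
    rfl
  exact ⟨(topEquiv.symm.trans (MulEquiv.subgroupCongr htop.symm)).trans e⟩

theorem exists_odd_aut (hA : ¬ IsPGroup 2 (MulAut X)) :
    ∃ α : MulAut X, (orderOf α).Coprime 2 ∧ α ≠ 1 := by
  by_contra h
  apply hA
  refine Agent.Inv.isPGroup_two_of_odd (fun φ m hm hφ => ?_)
  by_contra h1
  exact h ⟨φ, Nat.Coprime.coprime_dvd_left (orderOf_dvd_of_pow_eq_one hφ)
    ((Nat.coprime_two_right).2 hm), h1⟩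

end Cfsg.Agent.Grp.MetaAut
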