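import Mathlib

/-!
# Composition length as the maximal length of a subnormal chain
-/

set_option autoImplicit false

namespace Cfsg.Agent.Grp.CL

open ArithmeticFunction

variable {G : Type*} [Group G]

/-- a subnormal chain of length `l` from `A` to `B` -/
inductive Chain : Subgroup G → Subgroup G → ℕ → Prop
  | refl (A : Subgroup G) : Chain A A 0
  | step {A B C : Subgroup G} {l : ℕ} : Chain A B l → B < C →
      (∀ c ∈ C, ∀ b ∈ B, c * b * c⁻¹ ∈ B) → Chain A C (l + 1)

theorem Chain.le {A B : Subgroup G} {l : ℕ} (h : Chain A B l) : A ≤ B := by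
  induction h with
  | refl => exact le_rfl
  | step _ h2 _ ih => exact ih.trans h2.le

theorem Chain.trans {A B C : Subgroup G} {l m : ℕ} (h : Chain A B l) (h' : Chain B C m) :
    Chain A C (l + m) := by
  induction h' with
  | refl => exact h
  | step _ h2 h3 ih => exact ih.step h2 h3

theorem cardFactors_lt [Finite G] {B C : Subgroup G} (h : B < C) :
    cardFactors (Nat.card B) < cardFactors (Nat.card C) := by
  have h1 : Nat.card B * B.relIndex C = Nat.card C := by
    rw [← Nat.card_congr (Subgroup.subgroupOfEquivOfLe h.le).toEquiv]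
    exact Subgroup.card_mul_index _
  have h2 : B.relIndex C ≠ 0 := Subgroup.index_ne_zero_of_finite
  have h3 : B.relIndex C ≠ 1 := fun h4 => h.not_ge (Subgroup.relIndex_eq_one.1 h4)
  have h4 : 0 < cardFactors (B.relIndex C) := cardFactors_pos_iff_one_lt.2 (by omega)
  rw [← h1, cardFactors_mul Nat.card_pos.ne' h2]
  omega

theorem Chain.card [Finite G] {A B : Subgroup G} {l : ℕ} (h : Chain A B l) :
    cardFactors (Nat.card A) + l ≤ cardFactors (Nat.card B) := by
  induction h with
  | refl => exact le_rfl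
  | step _ h2 _ ih => have := cardFactors_lt h2; omega

theorem Chain.comap {H : Type*} [Group H] (f : H →* G) {A B : Subgroup G} {l : ℕ}
    (h : Chain A B l) (hB : B ≤ f.range) : Chain (A.comap f) (B.comap f) l := by
  induction h with
  | refl => exact Chain.refl _
  | @step B C l _ h2 h3 ih =>
    refine (ih (h2.le.trans hB)).step (lt_of_le_of_ne (Subgroup.comap_mono h2.le) fun h => ?_)
      (fun c hc b hb => by simpa using h3 _ hc _ hb)
    refine h2.not_ge fun c hc => ?_
    obtain ⟨x, rfl⟩ := hB hc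
    have : x ∈ C.comap f := hc
    rw [← h] at this
    exact this

theorem Chain.split {Q : Type*} [Group Q] (f : G →* Q) {A B : Subgroup G} {l : ℕ}
    (h : Chain A B l) : ∃ l₁ l₂, l ≤ l₁ + l₂ ∧ Chain (A ⊓ f.ker) (B ⊓ f.ker) l₁ ∧
      Chain (A.map f) (B.map f) l₂ := by
  induction h with
  | refl => exact ⟨0, 0, le_rfl, Chain.refl _, Chain.refl _⟩
  | @step B C l _ h2 h3 ih =>
    obtain ⟨l₁, l₂, hl, c1, c2⟩ := ih
    have n1 : ∀ c ∈ C ⊓ f.ker, ∀ b ∈ B ⊓ f.ker, c * b * c⁻¹ ∈ B ⊓ f.ker := fun c hc b hb =>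
      ⟨h3 c hc.1 b hb.1, f.normal_ker.conj_mem b hb.2 c⟩
    have n2 : ∀ c ∈ C.map f, ∀ b ∈ B.map f, c * b * c⁻¹ ∈ B.map f := by
      rintro _ ⟨c, hc, rfl⟩ _ ⟨b, hb, rfl⟩
      exact ⟨_, h3 c hc b hb, by simp⟩
    rcases (inf_le_inf_right f.ker h2.le).eq_or_lt with e1 | e1 <;>
      rcases (Subgroup.map_mono (f := f) h2.le).eq_or_lt with e2 | e2
    · exfalso
      refine h2.not_ge fun c hc => ?_
      obtain ⟨b, hb, hbc⟩ : f c ∈ B.map f := e2 ▸ Subgroup.mem_map_of_mem f hc
      have : b⁻¹ * c ∈ B ⊓ f.ker := e1 ▸ ⟨C.mul_mem (C.inv_mem (h2.le hb)) hc, by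
        change f (b⁻¹ * c) = 1
        rw [map_mul, map_inv, hbc, inv_mul_cancel]⟩
      simpa using B.mul_mem hb this.1
    · exact ⟨l₁, l₂ + 1, by omega, e1 ▸ c1, c2.step e2 n2⟩
    · exact ⟨l₁ + 1, l₂, by omega, c1.step e1 n1, e2 ▸ c2⟩
    · exact ⟨l₁ + 1, l₂ + 1, by omega, c1.step e1 n1, c2.step e2 n2⟩

/-- composition length -/
noncomputable def len (G : Type*) [Group G] : ℕ := sSup {l | Chain (⊥ : Subgroup G) ⊤ l}

theorem Chain.le_len [Finite G] {l : ℕ} (h : Chain (⊥ : Subgroup G) ⊤ l) : l ≤ len G :=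
  le_csSup ⟨cardFactors (Nat.card (⊤ : Subgroup G)), fun _ h => by have := Chain.card h; omega⟩ h

theorem len_le {n : ℕ} (h : ∀ l, Chain (⊥ : Subgroup G) ⊤ l → l ≤ n) : len G ≤ n :=
  csSup_le' h

theorem Chain.le_len_sub [Finite G] {K : Subgroup G} {l : ℕ} (h : Chain ⊥ K l) : l ≤ len K := by
  have := h.comap K.subtype (by simp)
  rw [MonoidHom.comap_bot, Subgroup.ker_subtype, Subgroup.comap_subtype,
    Subgroup.subgroupOf_self] at this
  exact this.le_len

theorem len_le_cardFactors [Finite G] : len G ≤ cardFactors (Nat.card G) :=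
  len_le fun l h => by have := h.card; rw [Subgroup.card_top] at this; omega

theorem len_le_of_equiv {H : Type*} [Group H] [Finite H] (e : H ≃* G) : len G ≤ len H :=
  len_le fun l h => by
    have := h.comap e.toMonoidHom (by rw [MonoidHom.range_eq_top.2 e.surjective])
    rw [MonoidHom.comap_bot, (MonoidHom.ker_eq_bot_iff _).2 e.injective, Subgroup.comap_top] at this
    exact this.le_len

theorem len_le_ker_add_range [Finite G] {Q : Type*} [Group Q] (f : G →* Q) :
    len G ≤ len f.ker + len f.range := len_le fun l h => by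
  obtain ⟨l₁, l₂, hl, c1, c2⟩ := h.split f.rangeRestrict
  rw [bot_inf_eq, top_inf_eq, MonoidHom.ker_rangeRestrict] at c1
  rw [Subgroup.map_bot, ← MonoidHom.range_eq_map,
    MonoidHom.range_eq_top.2 f.rangeRestrict_surjective] at c2
  have : Finite f.range := Finite.of_surjective _ f.rangeRestrict_surjective
  have := c1.le_len_sub
  have := c2.le_len
  omega

theorem len_le_of_sup_aux [Finite G] (N H : Subgroup G) [N.Normal] (h : N ⊔ H = ⊤) {l : ℕ}
    (hl : Chain (⊥ : Subgroup G) ⊤ l) :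
    ∃ m, l ≤ len N + m ∧ Chain (N.subgroupOf H) ⊤ m := by
  obtain ⟨l₁, l₂, hl, c1, c2⟩ := hl.split (QuotientGroup.mk' N)
  rw [bot_inf_eq, top_inf_eq, QuotientGroup.ker_mk'] at c1
  have h1 := c1.le_len_sub
  have c3 := c2.comap ((QuotientGroup.mk' N).comp H.subtype) (by
    rw [← h, Subgroup.map_sup, MonoidHom.range_comp, Subgroup.range_subtype, sup_le_iff]
    exact ⟨by rw [(Subgroup.map_eq_bot_iff _).2 (by rw [QuotientGroup.ker_mk'])]; exact bot_le,
      le_rfl⟩)
  rw [Subgroup.map_bot, MonoidHom.comap_bot, ← MonoidHom.comap_ker, QuotientGroup.ker_mk',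
    ← MonoidHom.range_eq_map, MonoidHom.range_eq_top.2 (QuotientGroup.mk'_surjective N),
    Subgroup.comap_top] at c3
  exact ⟨l₂, by omega, c3⟩

theorem chain_bot {D : Subgroup G} (h : D ≠ ⊥) : Chain ⊥ D 1 :=
  (Chain.refl ⊥).step (bot_lt_iff_ne_bot.2 h) fun c _ b hb => by
    rw [Subgroup.mem_bot] at hb ⊢; simp [hb]

theorem len_le_of_sup' [Finite G] (N H : Subgroup G) [N.Normal] (h : N ⊔ H = ⊤)
    (hne : N ⊓ H ≠ ⊥) : len G ≤ len N + len H - 1 := len_le fun l hl => by
  obtain ⟨m, h1, c⟩ := len_le_of_sup_aux N H h hl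
  have := ((chain_bot fun h2 => hne (disjoint_iff.1 (Subgroup.subgroupOf_eq_bot.1 h2))).trans
    c).le_len
  omega

theorem len_le_of_sup [Finite G] (N H : Subgroup G) [N.Normal] (h : N ⊔ H = ⊤) :
    len G ≤ len N + len H := by
  by_cases hne : N ⊓ H = ⊥
  · refine len_le fun l hl => ?_
    obtain ⟨m, h1, c⟩ := len_le_of_sup_aux N H h hl
    rw [Subgroup.subgroupOf_eq_bot.2 (disjoint_iff.2 hne)] at c
    have := c.le_len
    omega
  · have := len_le_of_sup' N H h hne
    omega

theorem len_sup_le [Finite G] (A B : Subgroup G) (h : ∀ b ∈ B, ∀ a ∈ A, b * a * b⁻¹ ∈ A) :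
    len (A ⊔ B : Subgroup G) ≤ len A + len B := by
  have hn : A ⊔ B ≤ Subgroup.normalizer (A : Set G) := sup_le Subgroup.le_normalizer fun b hb => by
    rw [Subgroup.mem_normalizer_iff]
    refine fun a => ⟨h b hb a, fun ha => ?_⟩
    simpa [mul_assoc] using h _ (B.inv_mem hb) _ ha
  have := (Subgroup.normal_subgroupOf_iff_le_normalizer (le_sup_left : A ≤ A ⊔ B)).2 hn
  have h1 := len_le_of_sup (A.subgroupOf (A ⊔ B)) (B.subgroupOf (A ⊔ B)) (by
    rw [← Subgroup.subgroupOf_sup le_sup_left le_sup_right, Subgroup.subgroupOf_self])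
  have h2 := len_le_of_equiv (Subgroup.subgroupOfEquivOfLe (le_sup_left : A ≤ A ⊔ B)).symm
  have h3 := len_le_of_equiv (Subgroup.subgroupOfEquivOfLe (le_sup_right : B ≤ A ⊔ B)).symm
  omega

theorem len_simple [IsSimpleGroup G] : len G ≤ 1 := len_le fun l h => by
  generalize hT : (⊤ : Subgroup G) = T at h
  cases h with
  | refl => omega
  | @step B _ l h1 h2 h3 =>
    subst hT
    have : B = ⊥ := (Subgroup.Normal.eq_bot_or_eq_top
      ⟨fun b hb g => h3 g (Subgroup.mem_top g) b hb⟩).resolve_right h2.ne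
    generalize hA : (⊥ : Subgroup G) = A at h1
    cases h1 with
    | refl => omega
    | step _ h5 _ => rw [this] at h5; exact absurd h5 not_lt_bot

theorem chain_of_fin (l : ℕ) (H : Fin (l + 1) → Subgroup G)
    (hchain : ∀ i : Fin l, H i.castSucc < H i.succ ∧ ((H i.castSucc).subgroupOf (H i.succ)).Normal) :
    Chain (H 0) (H (Fin.last l)) l := by
  have : ∀ i : Fin (l + 1), Chain (H 0) (H i) i := by
    intro i
    induction i using Fin.induction with
    | zero => exact Chain.refl _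
    | succ i ih =>
      exact ih.step (hchain i).1 fun c hc b hb =>
        (hchain i).2.conj_mem ⟨b, (hchain i).1.le hb⟩ hb ⟨c, hc⟩
  exact this _

theorem two_pow_cardFactors_le {n : ℕ} (hn : n ≠ 0) : 2 ^ cardFactors n ≤ n := by
  induction n using Nat.recOnMul with
  | zero => exact absurd rfl hn
  | one => simp
  | prime p hp => rw [cardFactors_apply_prime hp]; simpa using hp.two_le
  | mul a b ha hb =>
    have h1 := left_ne_zero_of_mul hn
    have h2 := right_ne_zero_of_mul hn
    rw [cardFactors_mul h1 h2, pow_add]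
    exact Nat.mul_le_mul (ha h1) (hb h2)

theorem cardFactors_le_of_dvd {m n : ℕ} (hn : n ≠ 0) (h : m ∣ n) :
    cardFactors m ≤ cardFactors n := by
  obtain ⟨k, rfl⟩ := h
  rw [cardFactors_mul (left_ne_zero_of_mul hn) (right_ne_zero_of_mul hn)]
  omega

/-- a finite group is generated by at most `Ω(|G|)` elements -/
theorem exists_gens [Finite G] (K : Subgroup G) : ∃ s : Finset G,
    K ⊔ Subgroup.closure (s : Set G) = ⊤ ∧
      s.card + cardFactors (Nat.card K) ≤ cardFactors (Nat.card G) := by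
  classical
  induction K using (wellFounded_gt (α := Subgroup G)).induction with
  | _ K ih =>
  by_cases h : K = ⊤
  · exact ⟨∅, by simp [h], by simp [h]⟩
  obtain ⟨x, hx⟩ : ∃ x, x ∉ K := by
    by_contra hc
    push Not at hc
    exact h (eq_top_iff.2 fun x _ => hc x)
  have hlt : K < K ⊔ Subgroup.closure {x} := lt_of_le_of_ne le_sup_left fun h =>
    hx (h ▸ Subgroup.mem_sup_right (Subgroup.subset_closure rfl))
  obtain ⟨s, h1, h2⟩ := ih _ hlt
  refine ⟨insert x s, ?_, ?_⟩
  · rw [Finset.coe_insert, Set.insert_eq, Subgroup.closure_union, ← sup_assoc, h1]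
  · have := cardFactors_lt hlt
    have := Finset.card_insert_le x s
    omega

end Cfsg.Agent.Grp.CL
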