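import Mathlib
import Cfsg.Agent.PLocal.AmbSyl
import Cfsg.Agent.Grp.SymplecticType

/-! Groups with a normal Sylow `p`-subgroup with cyclic quotient. -/

set_option autoImplicit false
set_option linter.unusedSectionVars false

namespace Cfsg.Agent.Grp.PByCyc

open Subgroup Cfsg Cfsg.Agent.PLocal.Amb

variable {G : Type*} [Group G] [Finite G] {p : ℕ} [hp : Fact p.Prime]

theorem isCyclic_quot {N : Subgroup G} {y : G} (h : N ⊔ zpowers y = ⊤) (M : Subgroup G) [M.Normal]
    (hM : N ≤ M) : IsCyclic (G ⧸ M) := by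
  refine isCyclic_iff_exists_zpowers_eq_top.2 ⟨QuotientGroup.mk' M y, ?_⟩
  rw [← MonoidHom.map_zpowers, ← map_top_of_surjective _ (QuotientGroup.mk'_surjective M), ← h,
    Subgroup.map_sup, (Subgroup.map_eq_bot_iff N).2 (by rwa [QuotientGroup.ker_mk']), bot_sup_eq]

/-- `T⟨x⟩` has a normal Sylow `p`-subgroup with cyclic quotient -/
theorem pbc {T : Subgroup G} (hT : IsPGroup p T) {x : G} (hx : x ∈ 𝐍[T]) :
    (∀ S : Sylow p ↥(T ⊔ zpowers x), (S : Subgroup ↥(T ⊔ zpowers x)).Normal) ∧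
      ∀ (S : Sylow p ↥(T ⊔ zpowers x)) [(S : Subgroup ↥(T ⊔ zpowers x)).Normal],
        IsCyclic (↥(T ⊔ zpowers x) ⧸ (S : Subgroup ↥(T ⊔ zpowers x))) := by
  have hn : (T.subgroupOf (T ⊔ zpowers x)).Normal :=
    normal_subgroupOf_of_le_normalizer (sup_le le_normalizer (zpowers_le.2 hx))
  have h1 : IsPGroup p (T.subgroupOf (T ⊔ zpowers x)) := hT.comap_subtype
  have h2 : T.subgroupOf (T ⊔ zpowers x) ⊔ zpowers ⟨x, mem_sup_right (mem_zpowers x)⟩ = ⊤ := by
    apply map_injective (T ⊔ zpowers x).subtype_injective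
    rw [Subgroup.map_sup, subgroupOf_map_subtype, MonoidHom.map_zpowers, inf_eq_left.2 le_sup_left,
      ← MonoidHom.range_eq_map, range_subtype]
    rfl
  refine ⟨fun S => Normal.of_commutator_le _ (le_trans ?_ (h1.le_sylow_of_normal S)),
    fun S _ => isCyclic_quot h2 _ (h1.le_sylow_of_normal S)⟩
  have := isCyclic_quot h2 _ le_rfl
  exact Normal.quotient_commutative_iff_commutator_le.1 IsCyclic.commutative

theorem isCyclic_of_cent (S : Sylow p G) [(S : Subgroup G).Normal] (hS : IsCyclic (S : Subgroup G))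
    (hq : IsCyclic (G ⧸ (S : Subgroup G))) (h : ∀ g : G, (orderOf g).Coprime p → g ∈ 𝐂[(S : Subgroup G)]) :
    IsCyclic G := by
  have h1 : (⊤ : Subgroup G) ≤ 𝐂[(S : Subgroup G)] := by
    rw [← (isSyl_top S).pRes_sup]
    exact sup_le (pRes_le_iff.2 fun g _ => h g) fun x hx y hy =>
      congrArg Subtype.val ((IsCyclic.commutative (α := (S : Subgroup G))).is_comm.comm ⟨y, hy⟩ ⟨x, hx⟩)
  have h2 := (QuotientGroup.mk' (S : Subgroup G)).isMulCommutative_of_isCyclic_of_ker_le_center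
    (by rw [QuotientGroup.ker_mk']; exact fun x hx => mem_center_iff.2 fun g => (h1 (mem_top g) x hx).symm)
  let _ : CommGroup G := { (inferInstance : Group G) with mul_comm := h2.is_comm.comm }
  have : IsCyclic (QuotientGroup.mk' (S : Subgroup G)).ker := by rwa [QuotientGroup.ker_mk']
  refine Group.isCyclic_of_coprime_card_ker (QuotientGroup.mk' (S : Subgroup G)) ?_
    (QuotientGroup.mk'_surjective _)
  rw [QuotientGroup.ker_mk']
  exact S.card_coprime_index

omit [Finite G] in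
theorem dih_cases {m : ℕ} (e : G ≃* DihedralGroup m) (x : G) :
    (∀ y : G, orderOf y ≠ 2 → y * x = x * y) ∨
      (orderOf x = 2 ∧ ∀ y : G, orderOf y ≠ 2 → x * y * x⁻¹ = y⁻¹) := by
  obtain ⟨x, rfl⟩ := e.symm.surjective x
  have h : ∀ y : G, orderOf y ≠ 2 → ∃ i, y = e.symm (DihedralGroup.r i) := fun y hy => by
    obtain ⟨i | i, rfl⟩ := e.symm.surjective y
    · exact ⟨i, rfl⟩
    · exact absurd (by rw [MulEquiv.orderOf_eq, DihedralGroup.orderOf_sr]) hy
  rcases x with j | j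
  · refine Or.inl fun y hy => ?_
    obtain ⟨i, rfl⟩ := h y hy
    rw [← map_mul, ← map_mul, DihedralGroup.r_mul_r, DihedralGroup.r_mul_r, add_comm]
  · refine Or.inr ⟨by rw [MulEquiv.orderOf_eq, DihedralGroup.orderOf_sr], fun y hy => ?_⟩
    obtain ⟨i, rfl⟩ := h y hy
    rw [← map_inv, ← map_inv, ← map_mul, ← map_mul]
    congr 1
    simp

end Cfsg.Agent.Grp.PByCyc
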